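import Groth.Agent.TanAdd.Basic
import Mathlib

/-!
# The tangent space of a group scheme at the identity is a module
-/

set_option autoImplicit false
set_option linter.style.haveILetI false
set_option backward.isDefEq.respectTransparency false
universe u

open CategoryTheory AlgebraicGeometry MonoidalCategory CartesianMonoidalCategory MonObj

namespace Groth.Agent.LieAlg

open Groth.Agent.TanAdd

variable {S : Scheme.{u}} {G : Over S} [GrpObj G] {B : Type u} [CommRing B] {f : Spec (CommRingCat.of B) ⟶ S}

/-- Tangent vectors at the identity in two orthogonal coordinates commute. -/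
theorem axes_commute (v w : LieS.Lie G B f) :
    Commute ((thMap B f (LinearMap.inl B B B) ≫ (v.1 : th B f B ⟶ G) : th B f (B × B) ⟶ G))
      ((thMap B f (LinearMap.inr B B B) ≫ (w.1 : th B f B ⟶ G) : th B f (B × B) ⟶ G)) := by
  have hv : thMap B f (0 : B →ₗ[B] B) ≫ (v.1 : th B f B ⟶ G) = 1 := by
    rw [← proj_zeroSec]
    exact (Category.assoc _ _ _).trans ((congrArg (LieS.proj B f ≫ ·) v.2).trans (MonObj.comp_one _))
  have hw : thMap B f (0 : B →ₗ[B] B) ≫ (w.1 : th B f B ⟶ G) = 1 := by
    rw [← proj_zeroSec]
    exact (Category.assoc _ _ _).trans ((congrArg (LieS.proj B f ≫ ·) w.2).trans (MonObj.comp_one _))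
  apply Over.OverMorphism.ext
  refine th_prod_hom_ext B f ?_ ?_
  · rw [← Over.comp_left, ← Over.comp_left]
    refine congrArg (fun v : th B f B ⟶ G ↦ v.left) ?_
    rw [MonObj.comp_mul, MonObj.comp_mul, ← Category.assoc, ← Category.assoc, thMap_comp, thMap_comp,
      LinearMap.fst_comp_inr, hw, _root_.mul_one, _root_.one_mul]
  · rw [← Over.comp_left, ← Over.comp_left]
    refine congrArg (fun v : th B f B ⟶ G ↦ v.left) ?_
    rw [MonObj.comp_mul, MonObj.comp_mul, ← Category.assoc, ← Category.assoc, thMap_comp, thMap_comp,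
      LinearMap.snd_comp_inl, hv, _root_.mul_one, _root_.one_mul]

theorem lie_mul_comm (v w : LieS.Lie G B f) : v * w = w * v := by
  apply Subtype.ext
  have := congrArg (fun P : th B f (B × B) ⟶ G =>
    thMap B f (LinearMap.fst B B B + LinearMap.snd B B B) ≫ P) (axes_commute v w).eq
  simp only [MonObj.comp_mul, ← Category.assoc, thMap_comp] at this
  have h1 : (LinearMap.fst B B B + LinearMap.snd B B B) ∘ₗ LinearMap.inl B B B = LinearMap.id := by ext; simp
  have h2 : (LinearMap.fst B B B + LinearMap.snd B B B) ∘ₗ LinearMap.inr B B B = LinearMap.id := by ext; simp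
  rw [h1, h2, thMap_id] at this
  simp only [Category.id_comp] at this
  exact this

noncomputable instance instCommGroup : CommGroup (LieS.Lie G B f) :=
  { (inferInstance : Group (LieS.Lie G B f)) with mul_comm := lie_mul_comm }

theorem scale_comp_scale (b c : B) : LieS.scale B f b ≫ LieS.scale B f c = LieS.scale B f (b * c) := by
  rw [scale_eq, scale_eq, scale_eq]
  refine (thMap_comp B f _ _).trans ?_
  congr 1
  ext
  simp

theorem lie_one_smul (v : LieS.Lie G B f) : (1 : B) • v = v := by
  apply Subtype.ext
  rw [LieS.smul_val, scale_eq, one_smul, thMap_id]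
  exact Category.id_comp _

theorem lie_mul_smul (b c : B) (v : LieS.Lie G B f) : (b * c) • v = b • c • v := by
  apply Subtype.ext
  rw [LieS.smul_val, LieS.smul_val, LieS.smul_val, ← Category.assoc, scale_comp_scale]

theorem lie_smul_one (b : B) : b • (1 : LieS.Lie G B f) = 1 :=
  Subtype.ext ((LieS.smul_val G B f b 1).trans (MonObj.comp_one _))

theorem lie_smul_mul (b : B) (v w : LieS.Lie G B f) : b • (v * w) = b • v * b • w :=
  Subtype.ext ((LieS.smul_val G B f b (v * w)).trans (MonObj.comp_mul _ _ _))

theorem lie_add_smul (b c : B) (v : LieS.Lie G B f) : (b + c) • v = b • v * c • v :=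
  Subtype.ext (mul_scale v.1 v.2 b c).symm

theorem lie_zero_smul (v : LieS.Lie G B f) : (0 : B) • v = 1 := by
  apply Subtype.ext
  rw [LieS.smul_val, scale_zero, Category.assoc]
  exact (congrArg (LieS.proj B f ≫ ·) v.2).trans (MonObj.comp_one _)

noncomputable instance instModule : Module B (Additive (LieS.Lie G B f)) where
  smul b v := Additive.ofMul (b • Additive.toMul v)
  one_smul v := congrArg Additive.ofMul (lie_one_smul _)
  mul_smul b c v := congrArg Additive.ofMul (lie_mul_smul b c _)
  smul_zero b := congrArg Additive.ofMul (lie_smul_one b)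
  smul_add b v w := congrArg Additive.ofMul (lie_smul_mul b _ _)
  add_smul b c v := congrArg Additive.ofMul (lie_add_smul b c _)
  zero_smul v := congrArg Additive.ofMul (lie_zero_smul _)

theorem ofMul_smul (b : B) (v : LieS.Lie G B f) : Additive.ofMul (b • v) = b • Additive.ofMul v := rfl

end Groth.Agent.LieAlg
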