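import Groth.Agent.LieAlg.Desc
import Groth.Agent.LieAlg.Module
import Mathlib

/-!
# The bracket on the tangent space of a group scheme
-/

set_option autoImplicit false
set_option linter.style.haveILetI false
set_option backward.isDefEq.respectTransparency false
universe u

open CategoryTheory AlgebraicGeometry MonoidalCategory CartesianMonoidalCategory MonObj

noncomputable section

namespace Groth.Agent.LieAlg

open Groth.Agent.TanAdd LieS

variable {S : Scheme.{u}} {G : Over S} [GrpObj G] {B : Type u} [CommRing B] {f : Spec (CommRingCat.of B) ⟶ S}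

/-- The point in the first coordinate. -/
def c1 (v : Lie G B f) : d2pt B f ⟶ G := proj (DualNumber B) (dpt B f).hom ≫ v.1

/-- The point in the second coordinate. -/
def c2 (v : Lie G B f) : d2pt B f ⟶ G := dptMap f (algebraMap B (DualNumber B)) ≫ v.1

/-- The point in the product of the coordinates. -/
def c12 (v : Lie G B f) : d2pt B f ⟶ G := mulMap B f ≫ v.1

theorem c1_mul (v w : Lie G B f) : c1 (v * w) = c1 v * c1 w := MonObj.comp_mul _ _ _

theorem c2_mul (v w : Lie G B f) : c2 (v * w) = c2 v * c2 w := MonObj.comp_mul _ _ _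

theorem c12_mul (v w : Lie G B f) : c12 (v * w) = c12 v * c12 w := MonObj.comp_mul _ _ _

theorem c12_one : c12 (1 : Lie G B f) = 1 := MonObj.comp_one _

theorem c12_injective : Function.Injective (c12 : Lie G B f → (d2pt B f ⟶ G)) := by
  intro z z' h
  apply Subtype.ext
  apply Over.OverMorphism.ext
  have e : (mulMap B f ≫ z.1).left = (mulMap B f ≫ z'.1).left := congrArg (fun v => v.left) h
  rw [Over.comp_left, Over.comp_left] at e
  refine InjEpi.eq_of_specMap_comp_eq' (CommRingCat.ofHom (R := DualNumber B) (S := D2 B) (mulHom B)) ?_ ?_ z.1.left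
    z'.1.left e
  · intro w w' hw
    have h1 := congrArg (fun v : D2 B ↦ v.fst.fst) hw
    have h2 := congrArg (fun v : D2 B ↦ v.snd.snd) hw
    simp [mulHom, dualHom, toD2, TrivSqZeroExt.algebraMap_eq_inl'] at h1 h2
    exact TrivSqZeroExt.ext h1 h2
  · intro p
    let π : D2 B →+* B := ((TrivSqZeroExt.fstHom B B B).toRingHom).comp
      (TrivSqZeroExt.fstHom (DualNumber B) (DualNumber B) (DualNumber B)).toRingHom
    refine ⟨PrimeSpectrum.comap π (PrimeSpectrum.comap (algebraMap B (DualNumber B)) p), ?_⟩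
    apply PrimeSpectrum.ext
    ext w
    have h1 : π (mulHom B w) = w.fst := by
      simp [π, mulHom, dualHom, toD2, TrivSqZeroExt.algebraMap_eq_inl']
    show algebraMap B (DualNumber B) (π (mulHom B w)) ∈ p.asIdeal ↔ w ∈ p.asIdeal
    rw [h1]
    have hnil : IsNilpotent (w - algebraMap B (DualNumber B) w.fst) := ⟨2, by
      ext <;> simp [pow_two, TrivSqZeroExt.algebraMap_eq_inl']⟩
    have hmem := nilpotent_iff_mem_prime.mp hnil p.asIdeal p.isPrime
    exact ⟨fun hm ↦ by simpa using p.asIdeal.add_mem hmem hm, fun hm ↦ by simpa using p.asIdeal.sub_mem hm hmem⟩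

theorem isBracket_iff (x y z : Lie G B f) :
    IsBracket G B f x y z ↔ c12 z = c2 x * c1 y * (c2 x)⁻¹ * (c1 y)⁻¹ := Iff.rfl

/-- Two orthogonal coordinates in the iterated dual numbers. -/
def pairHom (e₁ e₂ : D2 B) (h₁ : e₁ * e₁ = 0) (h₂ : e₂ * e₂ = 0) (h : e₁ * e₂ = 0) :
    TrivSqZeroExt B (B × B) →+* D2 B where
  toFun x := toD2 B x.fst + toD2 B x.snd.1 * e₁ + toD2 B x.snd.2 * e₂
  map_one' := by simp
  map_mul' x y := by
    simp only [TrivSqZeroExt.fst_mul, TrivSqZeroExt.snd_mul, Prod.fst_add, Prod.snd_add, Prod.smul_fst,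
      Prod.smul_snd, smul_eq_mul, MulOpposite.smul_eq_mul_unop, MulOpposite.unop_op, map_mul, map_add]
    linear_combination (-(toD2 B x.snd.1 * toD2 B y.snd.1)) * h₁ + (-(toD2 B x.snd.2 * toD2 B y.snd.2)) * h₂ +
      (-(toD2 B x.snd.1 * toD2 B y.snd.2 + toD2 B x.snd.2 * toD2 B y.snd.1)) * h
  map_zero' := by simp
  map_add' x y := by
    simp only [TrivSqZeroExt.fst_add, TrivSqZeroExt.snd_add, Prod.fst_add, Prod.snd_add, map_add]
    ring

/-- The morphism of two orthogonal coordinates. -/
def pairMap (e₁ e₂ : D2 B) (h₁ : e₁ * e₁ = 0) (h₂ : e₂ * e₂ = 0) (h : e₁ * e₂ = 0) :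
    d2pt B f ⟶ th B f (B × B) :=
  Over.homMk (Spec.map (CommRingCat.ofHom (pairHom e₁ e₂ h₁ h₂ h))) (by
    change Spec.map _ ≫ Spec.map _ ≫ f = Spec.map _ ≫ Spec.map _ ≫ f
    rw [← Category.assoc, specMap_comp, ← Category.assoc, specMap_comp]
    congr 3
    refine RingHom.ext fun b => ?_
    simp [pairHom, TrivSqZeroExt.algebraMap_eq_inl'])

/-- The first coordinate. -/
abbrev E1 : D2 B := algebraMap (DualNumber B) (D2 B) DualNumber.eps

/-- The second coordinate. -/
abbrev E2 : D2 B := DualNumber.eps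

theorem E1_sq : (E1 : D2 B) * E1 = 0 := by rw [← map_mul, eps_sq, map_zero]

theorem E2_sq : (E2 : D2 B) * E2 = 0 := eps_sq _

theorem c12_commute_c1 (z w : Lie G B f) : Commute (c12 z) (c1 w) := by
  let u : d2pt B f ⟶ th B f (B × B) := pairMap (E1 * E2) E1
    (by linear_combination ((E2 : D2 B) * E2) * (E1_sq (B := B))) E1_sq (by linear_combination (E2 : D2 B) * (E1_sq (B := B)))
  have h1 : u ≫ thMap B f (LinearMap.inl B B B) = mulMap B f := by
    ext
    change Spec.map _ ≫ Spec.map _ = Spec.map _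
    rw [specMap_comp]
    congr 2
    refine RingHom.ext fun x => ?_
    simp [pairHom, mulHom, TrivSqZeroExt.algebraMap_eq_inl']
  have h2 : u ≫ thMap B f (LinearMap.inr B B B) = proj (DualNumber B) (dpt B f).hom := by
    ext
    change Spec.map _ ≫ Spec.map _ = Spec.map _
    rw [specMap_comp]
    congr 2
    refine RingHom.ext fun x => ?_
    ext <;> simp [pairHom, TrivSqZeroExt.algebraMap_eq_inl']
  have e := congrArg (u ≫ ·) (axes_commute z w).eq
  simp only [MonObj.comp_mul, ← Category.assoc, h1, h2] at e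
  exact e

theorem c12_commute_c2 (z w : Lie G B f) : Commute (c12 z) (c2 w) := by
  let u : d2pt B f ⟶ th B f (B × B) := pairMap (E1 * E2) E2
    (by linear_combination ((E2 : D2 B) * E2) * (E1_sq (B := B))) E2_sq (by linear_combination (E1 : D2 B) * (E2_sq (B := B)))
  have h1 : u ≫ thMap B f (LinearMap.inl B B B) = mulMap B f := by
    ext
    change Spec.map _ ≫ Spec.map _ = Spec.map _
    rw [specMap_comp]
    congr 2
    refine RingHom.ext fun x => ?_
    simp [pairHom, mulHom, TrivSqZeroExt.algebraMap_eq_inl']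
  have h2 : u ≫ thMap B f (LinearMap.inr B B B) = dptMap f (algebraMap B (DualNumber B)) := by
    ext
    change Spec.map _ ≫ Spec.map _ = Spec.map _
    rw [specMap_comp]
    congr 2
    refine RingHom.ext fun x => ?_
    simp [pairHom, bcHom, TrivSqZeroExt.algebraMap_eq_inl']
  have e := congrArg (u ≫ ·) (axes_commute z w).eq
  simp only [MonObj.comp_mul, ← Category.assoc, h1, h2] at e
  exact e

theorem c12_commute_c12 (z w : Lie G B f) : Commute (c12 z) (c12 w) := by
  show c12 z * c12 w = c12 w * c12 z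
  rw [← c12_mul, ← c12_mul, lie_mul_comm]

/-- The two axes of the iterated dual numbers. -/
def axesHom : D2 B →+* TrivSqZeroExt B (B × B) where
  toFun x := TrivSqZeroExt.inl x.fst.fst + TrivSqZeroExt.inr (x.fst.snd, x.snd.fst)
  map_one' := by ext <;> simp
  map_mul' x y := by
    refine TrivSqZeroExt.ext ?_ (Prod.ext ?_ ?_) <;> simp <;> ring
  map_zero' := by ext <;> simp
  map_add' x y := by ext <;> simp

/-- The inclusion of the two axes. -/
def axesMap : th B f (B × B) ⟶ d2pt B f :=
  Over.homMk (Spec.map (CommRingCat.ofHom (axesHom (B := B)))) (by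
    change Spec.map _ ≫ Spec.map _ ≫ Spec.map _ ≫ f = Spec.map _ ≫ f
    rw [← Category.assoc, specMap_comp, ← Category.assoc, specMap_comp]
    congr 3
    refine RingHom.ext fun b => ?_
    refine TrivSqZeroExt.ext ?_ (Prod.ext ?_ ?_) <;> simp [axesHom, TrivSqZeroExt.algebraMap_eq_inl'])

theorem axesMap_c1 (v : Lie G B f) : axesMap ≫ c1 v = thMap B f (LinearMap.inl B B B) ≫ (v.1 : th B f B ⟶ G) := by
  rw [c1, ← Category.assoc]
  refine congrArg (· ≫ v.1) ?_
  apply Over.OverMorphism.ext
  change Spec.map _ ≫ Spec.map _ = Spec.map _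
  rw [specMap_comp]
  congr 2

theorem axesMap_c2 (v : Lie G B f) : axesMap ≫ c2 v = thMap B f (LinearMap.inr B B B) ≫ (v.1 : th B f B ⟶ G) := by
  rw [c2, ← Category.assoc]
  refine congrArg (· ≫ v.1) ?_
  apply Over.OverMorphism.ext
  change Spec.map _ ≫ Spec.map _ = Spec.map _
  rw [specMap_comp]
  congr 2
  refine RingHom.ext fun x => ?_
  refine TrivSqZeroExt.ext ?_ (Prod.ext ?_ ?_) <;> simp [axesHom, bcHom, TrivSqZeroExt.algebraMap_eq_inl']

/-- The constant part of the iterated dual numbers. -/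
abbrev const : D2 B →+* B :=
  (TrivSqZeroExt.fstHom B B B).toRingHom.comp (TrivSqZeroExt.fstHom (DualNumber B) (DualNumber B) (DualNumber B)).toRingHom

theorem isNilpotent_sub_const (c : D2 B) : IsNilpotent (c - toD2 B (const c)) := by
  refine ⟨3, ?_⟩
  ext <;> simp [pow_succ, TrivSqZeroExt.algebraMap_eq_inl']

/-- The origin. -/
def origin : pt B f ⟶ d2pt B f :=
  zeroSec B f ≫ zeroSec (DualNumber B) (dpt B f).hom

theorem origin_c2 (v : Lie G B f) : origin ≫ c2 v = 1 := by
  rw [origin, c2, Category.assoc]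
  have h : zeroSec (DualNumber B) (dpt B f).hom ≫ dptMap f (algebraMap B (DualNumber B)) =
      ptMap f (algebraMap B (DualNumber B)) ≫ zeroSec B f := zeroSec_dptMap f _
  rw [← Category.assoc (zeroSec (DualNumber B) (dpt B f).hom), h, Category.assoc,
    show zeroSec B f ≫ v.1 = 1 from v.2]
  exact (congrArg (zeroSec B f ≫ ·) (MonObj.comp_one _)).trans (MonObj.comp_one _)

/-- The constant projection of the axes. -/
def axesConst : D2 B →+* TrivSqZeroExt B (B × B) :=
  (TrivSqZeroExt.map (0 : B × B →ₗ[B] B × B)).toRingHom.comp axesHom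

theorem axesConst_apply (c : D2 B) : axesConst c = TrivSqZeroExt.inl c.fst.fst := by
  refine TrivSqZeroExt.ext ?_ (Prod.ext ?_ ?_) <;> simp [axesConst, axesHom]

theorem axesHom_apply (c : D2 B) : axesHom c = TrivSqZeroExt.inl c.fst.fst + TrivSqZeroExt.inr (c.fst.snd, c.snd.fst) :=
  rfl

theorem mulHom_apply (w : DualNumber B) :
    mulHom B w = toD2 B w.fst + toD2 B w.snd * (algebraMap (DualNumber B) (D2 B) DualNumber.eps * DualNumber.eps) :=
  rfl

theorem mulHom_injective : Function.Injective (mulHom B) := by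
  intro w w' hw
  have h1 := congrArg (fun v : D2 B ↦ v.fst.fst) hw
  have h2 := congrArg (fun v : D2 B ↦ v.snd.snd) hw
  simp [mulHom, dualHom, toD2, TrivSqZeroExt.algebraMap_eq_inl'] at h1 h2
  exact TrivSqZeroExt.ext h1 h2

theorem axes_comp_mulHom : (axesHom (B := B)).comp (mulHom B) = axesConst.comp (mulHom B) := by
  refine RingHom.ext fun w => ?_
  simp only [RingHom.comp_apply, axesConst_apply, axesHom_apply]
  refine TrivSqZeroExt.ext ?_ (Prod.ext ?_ ?_) <;> simp [mulHom_apply, TrivSqZeroExt.algebraMap_eq_inl']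

theorem mem_range_mulHom (c : D2 B) (hc : axesHom c = axesConst c) : c ∈ (mulHom B).range := by
  rw [axesConst_apply, axesHom_apply] at hc
  have h1 := congrArg (fun v : TrivSqZeroExt B (B × B) => v.snd.1) hc
  have h2 := congrArg (fun v : TrivSqZeroExt B (B × B) => v.snd.2) hc
  simp at h1 h2
  refine ⟨TrivSqZeroExt.inl c.fst.fst + TrivSqZeroExt.inr c.snd.snd, ?_⟩
  ext <;> simp [mulHom_apply, TrivSqZeroExt.algebraMap_eq_inl', h1, h2]

/-- The constant part, read in the dual numbers. -/
def constDual : D2 B →+* DualNumber B := (algebraMap B (DualNumber B)).comp const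

theorem mulHom_constDual (c : D2 B) : mulHom B (constDual c) = toD2 B (const c) :=
  RingHom.congr_fun (mulHom_comp_algebraMap B) _

theorem isNilpotent_sub_mulHom (c : D2 B) : IsNilpotent (c - mulHom B (constDual c)) := by
  rw [mulHom_constDual]
  exact isNilpotent_sub_const c

theorem exists_desc_mulHom {X : Scheme.{u}} (g : Spec (CommRingCat.of (D2 B)) ⟶ X)
    (hg : Spec.map (CommRingCat.ofHom (axesHom (B := B))) ≫ g = Spec.map (CommRingCat.ofHom axesConst) ≫ g) :
    ∃ z : Spec (CommRingCat.of (DualNumber B)) ⟶ X, Spec.map (CommRingCat.ofHom (R := DualNumber B) (S := D2 B) (mulHom B)) ≫ z = g :=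
  by
  have h := @exists_desc (DualNumber B) (D2 B) (TrivSqZeroExt B (B × B)) _ _ _ (mulHom B) axesHom axesConst
    axes_comp_mulHom mem_range_mulHom mulHom_injective constDual isNilpotent_sub_mulHom X g
  exact h hg

theorem mulHom_ext {X : Scheme.{u}} {g h : Spec (CommRingCat.of (DualNumber B)) ⟶ X}
    (e : Spec.map (CommRingCat.ofHom (R := DualNumber B) (S := D2 B) (mulHom B)) ≫ g = Spec.map (CommRingCat.ofHom (R := DualNumber B) (S := D2 B) (mulHom B)) ≫ h) : g = h := by
  suffices hs : Function.Surjective (PrimeSpectrum.comap (R := DualNumber B) (S := D2 B) (mulHom B)) by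
    have H := @InjEpi.eq_of_specMap_comp_eq (DualNumber B) (D2 B) _ _ (mulHom B) mulHom_injective hs X g h
    exact H e
  intro p
  refine ⟨PrimeSpectrum.comap const (PrimeSpectrum.comap (algebraMap B (DualNumber B)) p), ?_⟩
  apply PrimeSpectrum.ext
  ext w
  show algebraMap B (DualNumber B) (const (mulHom B w)) ∈ p.asIdeal ↔ w ∈ p.asIdeal
  have h1 : const (mulHom B w) = w.fst := by
    simp [mulHom_apply, TrivSqZeroExt.algebraMap_eq_inl']
  rw [h1]
  have hnil : IsNilpotent (w - algebraMap B (DualNumber B) w.fst) := ⟨2, by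
    ext <;> simp [pow_two, TrivSqZeroExt.algebraMap_eq_inl']⟩
  have hmem := nilpotent_iff_mem_prime.mp hnil p.asIdeal p.isPrime
  exact ⟨fun hm ↦ by simpa using p.asIdeal.add_mem hmem hm, fun hm ↦ by simpa using p.asIdeal.sub_mem hm hmem⟩

theorem exists_isBracket (x y : Lie G B f) : ∃ z : Lie G B f, IsBracket G B f x y z := by
  let K : d2pt B f ⟶ G := c2 x * c1 y * (c2 x)⁻¹ * (c1 y)⁻¹
  have hq : axesMap ≫ K = 1 := by
    simp only [K, MonObj.comp_mul, GrpObj.comp_inv, axesMap_c1, axesMap_c2]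
    rw [(axes_commute y x).symm.eq]
    group
  have hβ : Spec.map (CommRingCat.ofHom (axesConst (B := B))) =
      (thMap B f (0 : B × B →ₗ[B] B × B)).left ≫ (axesMap (f := f)).left := by
    change Spec.map _ = Spec.map _ ≫ Spec.map _
    rw [specMap_comp]
    rfl
  have hK : Spec.map (CommRingCat.ofHom (axesHom (B := B))) ≫ K.left =
      Spec.map (CommRingCat.ofHom axesConst) ≫ K.left := by
    rw [hβ, Category.assoc]
    change (axesMap ≫ K).left = (thMap B f (0 : B × B →ₗ[B] B × B) ≫ (axesMap ≫ K)).left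
    rw [hq, MonObj.comp_one]
  obtain ⟨z, hz⟩ := exists_desc_mulHom K.left hK
  have hz' : (mulMap B f).left ≫ z = K.left := hz
  have hw : z ≫ G.hom = (dpt B f).hom := by
    refine mulHom_ext ?_
    exact ((Category.assoc _ _ _).symm.trans (congrArg (· ≫ G.hom) hz')).trans
      ((Over.w K).trans (Over.w (mulMap B f)).symm)
  let Z : dpt B f ⟶ G := Over.homMk z hw
  have hZ : mulMap B f ≫ Z = K := Over.OverMorphism.ext hz'
  refine ⟨⟨Z, ?_⟩, hZ⟩
  rw [mem_Lie_iff]
  have ho : origin (f := f) ≫ mulMap B f = zeroSec B f := by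
    apply Over.OverMorphism.ext
    change (Spec.map _ ≫ Spec.map _) ≫ Spec.map _ = Spec.map _
    rw [specMap_comp, specMap_comp]
    congr 2
    refine RingHom.ext fun w => ?_
    simp [mulHom, TrivSqZeroExt.algebraMap_eq_inl']
  rw [← ho, Category.assoc, hZ]
  simp only [K, MonObj.comp_mul, GrpObj.comp_inv, origin_c2]
  group

/-- The bracket. -/
def br (x y : Lie G B f) : Lie G B f := (exists_isBracket x y).choose

theorem c12_br (x y : Lie G B f) : c12 (br x y) = c2 x * c1 y * (c2 x)⁻¹ * (c1 y)⁻¹ :=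
  (exists_isBracket x y).choose_spec

theorem br_mul_left (x x' y : Lie G B f) : br (x * x') y = br x y * br x' y := by
  refine c12_injective ?_
  rw [c12_mul, c12_br, c12_br x, c2_mul]
  have h : c2 x * c1 y * (c2 x)⁻¹ * (c1 y)⁻¹ * c12 (br x' y) = c2 x * c12 (br x' y) * (c1 y * (c2 x)⁻¹ * (c1 y)⁻¹) := by
    rw [← (c12_commute_c2 (br x' y) x).eq, ← c12_br, (c12_commute_c12 _ _).eq, c12_br x y]
    group
  rw [h, c12_br]
  group

theorem br_mul_right (x y y' : Lie G B f) : br x (y * y') = br x y * br x y' := by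
  refine c12_injective ?_
  rw [c12_mul, c12_br, c12_br x y, c1_mul]
  have h : c2 x * c1 y * (c2 x)⁻¹ * (c1 y)⁻¹ * c12 (br x y') = c2 x * c1 y * (c2 x)⁻¹ * c12 (br x y') * (c1 y)⁻¹ := by
    rw [_root_.mul_assoc _ (c1 y)⁻¹, ((c12_commute_c1 (br x y') y).inv_right).symm.eq]
    group
  rw [h, c12_br]
  group

/-- An endomorphism of the iterated dual numbers over `B`. -/
def d2End (h : D2 B →+* D2 B) (hh : h.comp (toD2 B) = toD2 B) : d2pt B f ⟶ d2pt B f :=
  Over.homMk (Spec.map (CommRingCat.ofHom h)) (by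
    change Spec.map _ ≫ Spec.map _ ≫ Spec.map _ ≫ f = Spec.map _ ≫ Spec.map _ ≫ f
    rw [← Category.assoc, specMap_comp, ← Category.assoc, specMap_comp, ← Category.assoc, specMap_comp]
    congr 3)

theorem d2End_comp (h : D2 B →+* D2 B) (hh : h.comp (toD2 B) = toD2 B) (q q' : d2pt B f ⟶ dpt B f)
    (r r' : DualNumber B →+* D2 B) (hq : q.left = Spec.map (CommRingCat.ofHom (R := DualNumber B) (S := D2 B) r))
    (hq' : q'.left = Spec.map (CommRingCat.ofHom (R := DualNumber B) (S := D2 B) r')) (e : h.comp r = r') :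
    d2End h hh ≫ q = q' := by
  apply Over.OverMorphism.ext
  rw [Over.comp_left, hq, hq']
  change Spec.map _ ≫ Spec.map _ = Spec.map _
  rw [specMap_comp, e]

theorem br_of_endo (τ : d2pt B f ⟶ d2pt B f) (x y x' y' z : Lie G B f) (h1 : τ ≫ c1 y = c1 y') (h2 : τ ≫ c2 x = c2 x')
    (h12 : τ ≫ c12 (br x y) = c12 z) : z = br x' y' := by
  refine c12_injective ?_
  rw [← h12, c12_br, c12_br, MonObj.comp_mul, MonObj.comp_mul, MonObj.comp_mul, GrpObj.comp_inv, GrpObj.comp_inv, h1, h2]

/-- Scale the second coordinate. -/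
def scale2 (b : B) : D2 B →+* D2 B := scaleHom (algebraMap B (DualNumber B) b)

/-- Scale the first coordinate. -/
def scale1 (b : B) : D2 B →+* D2 B := bcHom (scaleHom b)

theorem scale2_base (b : B) : (scale2 b).comp (toD2 B) = toD2 B := by
  refine RingHom.ext fun w => ?_
  ext <;> simp [scale2, scaleHom, TrivSqZeroExt.algebraMap_eq_inl']

theorem scale1_base (b : B) : (scale1 b).comp (toD2 B) = toD2 B := by
  refine RingHom.ext fun w => ?_
  ext <;> simp [scale1, scaleHom, bcHom, TrivSqZeroExt.algebraMap_eq_inl']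

theorem scale2_fst (b : B) (w : DualNumber B) :
    scale2 b (algebraMap (DualNumber B) (D2 B) w) = algebraMap (DualNumber B) (D2 B) w := by
  ext <;> simp [scale2, scaleHom, TrivSqZeroExt.algebraMap_eq_inl']

theorem scale2_snd (b : B) (w : DualNumber B) :
    scale2 b (bcHom (algebraMap B (DualNumber B)) w) = bcHom (algebraMap B (DualNumber B)) (scaleHom b w) := by
  ext <;> simp [scale2, bcHom, scaleHom, TrivSqZeroExt.algebraMap_eq_inl']

theorem scale2_mul (b : B) (w : DualNumber B) : scale2 b (mulHom B w) = mulHom B (scaleHom b w) := by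
  ext <;> simp [scale2, mulHom, scaleHom, TrivSqZeroExt.algebraMap_eq_inl']

theorem scale1_fst (b : B) (w : DualNumber B) :
    scale1 b (algebraMap (DualNumber B) (D2 B) w) = algebraMap (DualNumber B) (D2 B) (scaleHom b w) := by
  ext <;> simp [scale1, bcHom, scaleHom, TrivSqZeroExt.algebraMap_eq_inl']

theorem scale1_snd (b : B) (w : DualNumber B) :
    scale1 b (bcHom (algebraMap B (DualNumber B)) w) = bcHom (algebraMap B (DualNumber B)) w := by
  ext <;> simp [scale1, bcHom, scaleHom, TrivSqZeroExt.algebraMap_eq_inl']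

theorem scale1_mul (b : B) (w : DualNumber B) : scale1 b (mulHom B w) = mulHom B (scaleHom b w) := by
  ext <;> simp [scale1, bcHom, mulHom, scaleHom, TrivSqZeroExt.algebraMap_eq_inl']

theorem left_proj : (proj (DualNumber B) (dpt B f).hom : d2pt B f ⟶ dpt B f).left =
    Spec.map (CommRingCat.ofHom (R := DualNumber B) (S := D2 B) (algebraMap (DualNumber B) (D2 B))) := rfl

theorem left_dptMap : (dptMap f (algebraMap B (DualNumber B)) : d2pt B f ⟶ dpt B f).left =
    Spec.map (CommRingCat.ofHom (R := DualNumber B) (S := D2 B) (bcHom (algebraMap B (DualNumber B)))) := rfl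

theorem left_mulMap : (mulMap B f).left =
    Spec.map (CommRingCat.ofHom (R := DualNumber B) (S := D2 B) (mulHom B)) := rfl

theorem left_comp_scale (q : d2pt B f ⟶ dpt B f) (r : DualNumber B →+* D2 B) (b : B)
    (hq : q.left = Spec.map (CommRingCat.ofHom (R := DualNumber B) (S := D2 B) r)) :
    (q ≫ scale B f b).left = Spec.map (CommRingCat.ofHom (R := DualNumber B) (S := D2 B) (r.comp (scaleHom b))) := by
  rw [Over.comp_left, hq]
  have := @specMap_comp (DualNumber B) (DualNumber B) (D2 B) _ _ _ (scaleHom b) r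
  exact this

theorem br_smul_left (b : B) (x y : Lie G B f) : br (b • x) y = b • br x y := by
  refine (br_of_endo (d2End (scale2 b) (scale2_base b)) x y (b • x) y (b • br x y) ?_ ?_ ?_).symm
  · rw [c1, ← Category.assoc]
    exact congrArg (· ≫ y.1) (d2End_comp _ _ _ _ _ _ left_proj left_proj (RingHom.ext (scale2_fst b)))
  · rw [c2, c2, smul_val, ← Category.assoc, ← Category.assoc]
    exact congrArg (· ≫ x.1) (d2End_comp _ _ _ _ _ _ left_dptMap (left_comp_scale _ _ b left_dptMap)
      (RingHom.ext (scale2_snd b)))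
  · rw [c12, c12, smul_val, ← Category.assoc, ← Category.assoc]
    exact congrArg (· ≫ (br x y).1) (d2End_comp _ _ _ _ _ _ left_mulMap (left_comp_scale _ _ b left_mulMap)
      (RingHom.ext (scale2_mul b)))

theorem br_smul_right (b : B) (x y : Lie G B f) : br x (b • y) = b • br x y := by
  refine (br_of_endo (d2End (scale1 b) (scale1_base b)) x y x (b • y) (b • br x y) ?_ ?_ ?_).symm
  · rw [c1, c1, smul_val, ← Category.assoc, ← Category.assoc]
    exact congrArg (· ≫ y.1) (d2End_comp _ _ _ _ _ _ left_proj (left_comp_scale _ _ b left_proj)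
      (RingHom.ext (scale1_fst b)))
  · rw [c2, ← Category.assoc]
    exact congrArg (· ≫ x.1) (d2End_comp _ _ _ _ _ _ left_dptMap left_dptMap (RingHom.ext (scale1_snd b)))
  · rw [c12, c12, smul_val, ← Category.assoc, ← Category.assoc]
    exact congrArg (· ≫ (br x y).1) (d2End_comp _ _ _ _ _ _ left_mulMap (left_comp_scale _ _ b left_mulMap)
      (RingHom.ext (scale1_mul b)))

/-- Exchange the coordinates. -/
def swapHom : D2 B →+* D2 B :=
  dualHom (B := DualNumber B) (C := D2 B) (bcHom (algebraMap B (DualNumber B))) (E1 (B := B)) E1_sq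

theorem swap_fst (w : DualNumber B) :
    swapHom (algebraMap (DualNumber B) (D2 B) w) = bcHom (algebraMap B (DualNumber B)) w := by
  simp [swapHom, TrivSqZeroExt.algebraMap_eq_inl']

theorem swap_snd (w : DualNumber B) :
    swapHom (bcHom (algebraMap B (DualNumber B)) w) = algebraMap (DualNumber B) (D2 B) w := by
  ext <;> simp [swapHom, bcHom, TrivSqZeroExt.algebraMap_eq_inl']

theorem swap_base : (swapHom (B := B)).comp (toD2 B) = toD2 B := by
  refine RingHom.ext fun w => ?_
  ext <;> simp [swapHom, bcHom, TrivSqZeroExt.algebraMap_eq_inl']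

/-- The first axis. -/
def ax1 : D2 B →+* DualNumber B := (TrivSqZeroExt.fstHom (DualNumber B) (DualNumber B) (DualNumber B)).toRingHom

/-- The second axis. -/
def ax2 : D2 B →+* DualNumber B := bcHom (TrivSqZeroExt.fstHom B B B).toRingHom

theorem ax1_toD2 (w : B) : ax1 (toD2 B w) = algebraMap B (DualNumber B) w := by
  simp [ax1, TrivSqZeroExt.algebraMap_eq_inl']

theorem ax2_toD2 (w : B) : ax2 (toD2 B w) = algebraMap B (DualNumber B) w := by
  simp [ax2, bcHom, TrivSqZeroExt.algebraMap_eq_inl']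

theorem swap_fix (c : D2 B) (hc : ax1 c = ax2 c) : swapHom c = c := by
  have h1 := congrArg TrivSqZeroExt.snd hc
  simp [ax1, ax2, bcHom, TrivSqZeroExt.algebraMap_eq_inl'] at h1
  ext <;> simp [swapHom, bcHom, TrivSqZeroExt.algebraMap_eq_inl', h1]

/-- An axis as a morphism. -/
def axMap (a : D2 B →+* DualNumber B) (ha : ∀ w, a (toD2 B w) = algebraMap B (DualNumber B) w) :
    dpt B f ⟶ d2pt B f :=
  Over.homMk (Spec.map (CommRingCat.ofHom (R := D2 B) (S := DualNumber B) a)) (by
    change Spec.map _ ≫ Spec.map _ ≫ Spec.map _ ≫ f = Spec.map _ ≫ f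
    rw [← Category.assoc, specMap_comp, ← Category.assoc, specMap_comp]
    congr 3
    exact RingHom.ext ha)

theorem axMap_comp (a : D2 B →+* DualNumber B) (ha : ∀ w, a (toD2 B w) = algebraMap B (DualNumber B) w)
    (q : d2pt B f ⟶ dpt B f) (r : DualNumber B →+* D2 B) (q' : dpt B f ⟶ dpt B f) (r' : DualNumber B →+* DualNumber B)
    (hq : q.left = Spec.map (CommRingCat.ofHom (R := DualNumber B) (S := D2 B) r))
    (hq' : q'.left = Spec.map (CommRingCat.ofHom (R := DualNumber B) (S := DualNumber B) r')) (e : ∀ w, a (r w) = r' w) :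
    axMap a ha ≫ q = q' := by
  apply Over.OverMorphism.ext
  rw [Over.comp_left, hq, hq']
  have he : a.comp r = r' := RingHom.ext e
  subst he
  have := @specMap_comp (DualNumber B) (D2 B) (DualNumber B) _ _ _ r a
  exact this

theorem left_proj_zeroSec : (proj B f ≫ zeroSec B f).left = Spec.map (CommRingCat.ofHom (R := DualNumber B)
    (S := DualNumber B) ((algebraMap B (DualNumber B)).comp (TrivSqZeroExt.fstHom B B B).toRingHom)) :=
  by
  have := @specMap_comp (DualNumber B) B (DualNumber B) _ _ _ (TrivSqZeroExt.fstHom B B B).toRingHom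
    (algebraMap B (DualNumber B))
  exact this

theorem left_id : (𝟙 (dpt B f) : dpt B f ⟶ dpt B f).left = Spec.map (CommRingCat.ofHom (R := DualNumber B) (S := DualNumber B)
    (RingHom.id _)) :=
  (Spec.map_id _).symm

theorem axMap_P (x : Lie G B f) :
    axMap (f := f) ax1 ax1_toD2 ≫ (c2 x * c1 x) = axMap (f := f) ax2 ax2_toD2 ≫ (c2 x * c1 x) := by
  have z0 : proj B f ≫ zeroSec B f ≫ x.1 = 1 :=
    (congrArg (proj B f ≫ ·) x.2).trans (MonObj.comp_one _)
  have r1 : axMap (f := f) ax1 ax1_toD2 ≫ c1 x = x.1 := by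
    rw [c1, ← Category.assoc, axMap_comp ax1 ax1_toD2 _ _ (𝟙 (dpt B f)) (RingHom.id (DualNumber B)) left_proj left_id (fun w => by
      simp [ax1, TrivSqZeroExt.algebraMap_eq_inl']), Category.id_comp]
  have r2 : axMap (f := f) ax1 ax1_toD2 ≫ c2 x = 1 := by
    rw [c2, ← Category.assoc, axMap_comp ax1 ax1_toD2 _ _ (proj B f ≫ zeroSec B f) _ left_dptMap left_proj_zeroSec
      (fun w => by simp [ax1, bcHom, TrivSqZeroExt.algebraMap_eq_inl']), Category.assoc, z0]
  have r3 : axMap (f := f) ax2 ax2_toD2 ≫ c1 x = 1 := by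
    rw [c1, ← Category.assoc, axMap_comp ax2 ax2_toD2 _ _ (proj B f ≫ zeroSec B f) _ left_proj left_proj_zeroSec
      (fun w => by simp [ax2, bcHom, TrivSqZeroExt.algebraMap_eq_inl']), Category.assoc, z0]
  have r4 : axMap (f := f) ax2 ax2_toD2 ≫ c2 x = x.1 := by
    rw [c2, ← Category.assoc, axMap_comp ax2 ax2_toD2 _ _ (𝟙 (dpt B f)) (RingHom.id (DualNumber B)) left_dptMap left_id (fun w => by
      ext <;> simp [ax2, bcHom, TrivSqZeroExt.algebraMap_eq_inl']), Category.id_comp]
  rw [MonObj.comp_mul, MonObj.comp_mul, r1, r2, r3, r4, _root_.one_mul, _root_.mul_one]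

/-- Points which agree on the axes are symmetric. -/
theorem swap_symm {X : Scheme.{u}} (g : Spec (CommRingCat.of (D2 B)) ⟶ X)
    (hg : Spec.map (CommRingCat.ofHom (R := D2 B) (S := DualNumber B) ax1) ≫ g =
      Spec.map (CommRingCat.ofHom (R := D2 B) (S := DualNumber B) ax2) ≫ g) :
    Spec.map (CommRingCat.ofHom (R := D2 B) (S := D2 B) swapHom) ≫ g = g := by
  let A' := RingHom.eqLocus (ax1 (B := B)) ax2
  have hπ' : ∀ c : D2 B, (toD2 B).comp const c ∈ A' := fun c => (ax1_toD2 _).trans (ax2_toD2 _).symm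
  let π : D2 B →+* A' := ((toD2 B).comp const).codRestrict A' hπ'
  have hnil : ∀ c : D2 B, IsNilpotent (c - A'.subtype (π c)) := fun c => isNilpotent_sub_const c
  have hαβ : (ax1 (B := B)).comp A'.subtype = (ax2 (B := B)).comp A'.subtype := RingHom.ext fun w => w.2
  have heq : ∀ c : D2 B, ax1 c = ax2 c → c ∈ A'.subtype.range := fun c hc => ⟨⟨c, hc⟩, rfl⟩
  have H := @exists_desc A' (D2 B) (DualNumber B) _ _ _ A'.subtype ax1 ax2 hαβ heq Subtype.val_injective π hnil X g
  obtain ⟨z, hz⟩ := H hg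
  have hfix : (swapHom (B := B)).comp A'.subtype = A'.subtype := RingHom.ext fun w => swap_fix w.1 w.2
  rw [← hz, ← Category.assoc, ← Spec.map_comp, ← CommRingCat.ofHom_comp, hfix]

theorem br_self (x : Lie G B f) : br x x = 1 := by
  refine c12_injective ?_
  rw [c12_br, c12_one]
  let τ : d2pt B f ⟶ d2pt B f := d2End swapHom swap_base
  have hsym : τ ≫ (c2 x * c1 x) = c2 x * c1 x :=
    Over.OverMorphism.ext (swap_symm _ (congrArg (fun v => v.left) (axMap_P x)))
  have h1 : τ ≫ c1 x = c2 x := by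
    rw [c1, ← Category.assoc]
    exact congrArg (· ≫ x.1) (d2End_comp _ _ _ _ _ _ left_proj left_dptMap (RingHom.ext swap_fst))
  have h2 : τ ≫ c2 x = c1 x := by
    rw [c2, ← Category.assoc]
    exact congrArg (· ≫ x.1) (d2End_comp _ _ _ _ _ _ left_dptMap left_proj (RingHom.ext swap_snd))
  rw [MonObj.comp_mul, h1, h2] at hsym
  rw [← hsym]
  group

end Groth.Agent.LieAlg
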