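import Groth.Agent.InjEpi.Basic
import Mathlib

/-!
# Morphisms out of the spectrum of an equalizer of nilpotent extensions
-/

set_option autoImplicit false
set_option backward.isDefEq.respectTransparency false
universe u

open CategoryTheory CategoryTheory.Limits AlgebraicGeometry

namespace Groth.Agent.LieAlg

theorem isUnit_comp {A C P : Type u} [CommRing A] [CommRing C] [CommRing P] (a : A →+* C) {α β : C →+* P}
    (hαβ : α.comp a = β.comp a) (r : A) :
    IsUnit (((algebraMap P (Localization.Away (α (a r)))).comp β) (a r)) := by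
  have h : β (a r) = α (a r) := (RingHom.congr_fun hαβ r).symm
  show IsUnit (algebraMap P _ (β (a r)))
  rw [h]
  exact IsLocalization.Away.algebraMap_isUnit (α (a r))

/-- Equalities of ring maps on localisations. -/
theorem exists_away_eq {A C P : Type u} [CommRing A] [CommRing C] [CommRing P] (a : A →+* C) (α β : C →+* P)
    (hαβ : α.comp a = β.comp a) (heq : ∀ c, α c = β c → c ∈ a.range) (r : A) {D : Type u} [CommRing D]
    (φ : D →+* Localization.Away (a r))
    (hφ : ∀ d, IsLocalization.Away.lift (g := (algebraMap P (Localization.Away (α (a r)))).comp α) (a r)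
        (IsLocalization.Away.algebraMap_isUnit (α (a r))) (φ d) =
      IsLocalization.Away.lift (g := (algebraMap P (Localization.Away (α (a r)))).comp β) (a r)
        (isUnit_comp a hαβ r) (φ d))
    (d : D) : φ d ∈ (IsLocalization.Away.map (Localization.Away r) (Localization.Away (a r)) a r).range := by
  obtain ⟨c, ⟨_, n, rfl⟩, hc⟩ := IsLocalization.exists_mk'_eq (Submonoid.powers (a r)) (φ d)
  have h := hφ d
  have e : φ d * algebraMap C _ (a r ^ n) = algebraMap C _ c := by
    rw [← hc]; exact IsLocalization.mk'_spec _ _ _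
  replace h := congrArg (· * algebraMap P (Localization.Away (α (a r))) (α (a r) ^ n)) h
  have key : algebraMap P (Localization.Away (α (a r))) (α c) = algebraMap P _ (β c) := by
    have h1 := congrArg (IsLocalization.Away.lift (g := (algebraMap P (Localization.Away (α (a r)))).comp α) (a r)
      (IsLocalization.Away.algebraMap_isUnit (α (a r)))) e
    rw [map_mul, IsLocalization.Away.lift_eq, IsLocalization.Away.lift_eq] at h1
    have hu := isUnit_comp a hαβ r
    have h2 := congrArg (IsLocalization.Away.lift (g := (algebraMap P (Localization.Away (α (a r)))).comp β) (a r) hu) e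
    rw [map_mul, IsLocalization.Away.lift_eq, IsLocalization.Away.lift_eq] at h2
    simp only [RingHom.comp_apply, map_pow] at h1 h2
    rw [show β (a r) = α (a r) from (RingHom.congr_fun hαβ r).symm] at h2
    simp only [map_pow] at h
    rw [← h1, ← h2, h]
  obtain ⟨⟨_, m, rfl⟩, hm⟩ := (IsLocalization.eq_iff_exists (Submonoid.powers (α (a r))) _).1 key
  obtain ⟨x, hx⟩ := heq (a r ^ m * c) (by
    rw [map_mul, map_mul, map_pow, map_pow, show β (a r) = α (a r) from (RingHom.congr_fun hαβ r).symm]
    exact hm)
  refine ⟨IsLocalization.mk' _ x (⟨r ^ (m + n), m + n, rfl⟩ : Submonoid.powers r), ?_⟩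
  refine (IsLocalization.map_mk' _ _ _).trans ?_
  rw [IsLocalization.mk'_eq_iff_eq_mul]
  change algebraMap C _ (a x) = φ d * algebraMap C _ (a (r ^ (m + n)))
  rw [hx, map_mul, ← e, map_pow, pow_add, map_mul]
  simp only [map_mul, map_pow]
  ring

theorem mem_of_nilpotent {A C : Type u} [CommRing A] [CommRing C] {a : A →+* C} {π : C →+* A} (ha : Function.Injective a)
    (hπ : ∀ c, IsNilpotent (c - a (π c))) (p : PrimeSpectrum A) (x : A) : x ∈ p.asIdeal ↔ π (a x) ∈ p.asIdeal := by
  have hn : IsNilpotent (x - π (a x)) := by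
    obtain ⟨k, hk⟩ := hπ (a x)
    exact ⟨k, ha (by rw [map_pow, map_sub, hk, map_zero])⟩
  have hmem := nilpotent_iff_mem_prime.mp hn p.asIdeal p.isPrime
  exact ⟨fun h => by simpa using p.asIdeal.sub_mem h hmem, fun h => by simpa using p.asIdeal.add_mem hmem h⟩

/-- The localisation map as a morphism of spectra. -/
noncomputable abbrev loc (A : Type u) [CommRing A] (r : A) :
    Spec (CommRingCat.of (Localization.Away r)) ⟶ Spec (CommRingCat.of A) :=
  Spec.map (CommRingCat.ofHom (algebraMap A (Localization.Away r)))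

/-- The map of localisations. -/
noncomputable abbrev awayHom {A C : Type u} [CommRing A] [CommRing C] (a : A →+* C) (r : A) :
    Localization.Away r →+* Localization.Away (a r) :=
  IsLocalization.Away.map (Localization.Away r) (Localization.Away (a r)) a r

theorem awayHom_algebraMap {A C : Type u} [CommRing A] [CommRing C] (a : A →+* C) (r x : A) :
    awayHom a r (algebraMap A _ x) = algebraMap C _ (a x) :=
  IsLocalization.map_eq _ x

theorem loc_range {A : Type u} [CommRing A] (r : A) :
    Set.range (loc A r) = (PrimeSpectrum.basicOpen r : Set (PrimeSpectrum A)) :=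
  PrimeSpectrum.localization_away_comap_range (Localization.Away r) r

theorem sq {A C : Type u} [CommRing A] [CommRing C] (a : A →+* C) (r : A) :
    Spec.map (CommRingCat.ofHom (awayHom a r)) ≫ loc A r = loc C (a r) ≫ Spec.map (CommRingCat.ofHom a) := by
  simp only [loc, ← Spec.map_comp, ← CommRingCat.ofHom_comp]
  congr 2
  exact RingHom.ext fun x => awayHom_algebraMap a r x

/-- A descended piece restricted to a smaller basic open. -/
theorem restrict_piece {A C : Type u} [CommRing A] [CommRing C] {a : A →+* C} {X : Scheme.{u}}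
    {g : Spec (CommRingCat.of C) ⟶ X} (r t : A) (hu : IsUnit (algebraMap A (Localization.Away t) r))
    (w : Spec (CommRingCat.of (Localization.Away r)) ⟶ X)
    (hw : Spec.map (CommRingCat.ofHom (awayHom a r)) ≫ w = loc C (a r) ≫ g) :
    Spec.map (CommRingCat.ofHom (awayHom a t)) ≫
      Spec.map (CommRingCat.ofHom (IsLocalization.Away.lift (S := Localization.Away r) r hu)) ≫ w = loc C (a t) ≫ g := by
  have hru : IsUnit (algebraMap C (Localization.Away (a t)) (a r)) := by
    rw [← awayHom_algebraMap]
    exact hu.map (awayHom a t)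
  have h3 : (awayHom a t).comp (IsLocalization.Away.lift (S := Localization.Away r) r hu) =
      (IsLocalization.Away.lift (S := Localization.Away (a r)) (a r) hru).comp (awayHom a r) := by
    refine IsLocalization.ringHom_ext (Submonoid.powers r) (RingHom.ext fun x => ?_)
    simp only [RingHom.comp_apply, IsLocalization.Away.lift_eq, awayHom_algebraMap]
  rw [← Category.assoc, ← Spec.map_comp, ← CommRingCat.ofHom_comp, h3, CommRingCat.ofHom_comp,
    Spec.map_comp, Category.assoc, hw]
  simp only [loc, ← Category.assoc, ← Spec.map_comp, ← CommRingCat.ofHom_comp]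
  congr 3
  exact IsLocalization.Away.lift_comp _ _

/-- Descended pieces agree on overlaps. -/
theorem piece_agree {A C : Type u} [CommRing A] [CommRing C] {a : A →+* C} (ha : Function.Injective a)
    {π : C →+* A} (hπ : ∀ c, IsNilpotent (c - a (π c))) {X : Scheme.{u}}
    {g : Spec (CommRingCat.of C) ⟶ X} (i j : A)
    (zi : Spec (CommRingCat.of (Localization.Away i)) ⟶ X) (zj : Spec (CommRingCat.of (Localization.Away j)) ⟶ X)
    (hi : Spec.map (CommRingCat.ofHom (awayHom a i)) ≫ zi = loc C (a i) ≫ g)
    (hj : Spec.map (CommRingCat.ofHom (awayHom a j)) ≫ zj = loc C (a j) ≫ g) :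
    pullback.fst (loc A i) (loc A j) ≫ zi = pullback.snd (loc A i) (loc A j) ≫ zj := by
  let t : A := i * j
  haveI : ∀ r, IsOpenImmersion (loc A r) := fun r => IsOpenImmersion.of_isLocalization r
  have ht : IsUnit (algebraMap A (Localization.Away t) i) ∧ IsUnit (algebraMap A (Localization.Away t) j) :=
    IsUnit.mul_iff.1 (by rw [← map_mul]; exact IsLocalization.Away.algebraMap_isUnit t)
  let ti : Localization.Away i →+* Localization.Away t := IsLocalization.Away.lift i ht.1
  let tj : Localization.Away j →+* Localization.Away t := IsLocalization.Away.lift j ht.2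
  have hti : Spec.map (CommRingCat.ofHom ti) ≫ loc A i = loc A t := by
    simp only [loc, ← Spec.map_comp, ← CommRingCat.ofHom_comp]
    congr 2
    exact IsLocalization.Away.lift_comp _ _
  have htj : Spec.map (CommRingCat.ofHom tj) ≫ loc A j = loc A t := by
    simp only [loc, ← Spec.map_comp, ← CommRingCat.ofHom_comp]
    congr 2
    exact IsLocalization.Away.lift_comp _ _
  have hsub : Set.range (pullback.fst (loc A i) (loc A j) ≫ loc A i) ⊆ Set.range (loc A t) := by
    rintro _ ⟨p, rfl⟩
    have h1 : (pullback.fst (loc A i) (loc A j) ≫ loc A i) p ∈ Set.range (loc A i) := ⟨_, rfl⟩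
    have h2 : (pullback.fst (loc A i) (loc A j) ≫ loc A i) p ∈ Set.range (loc A j) := by
      rw [pullback.condition]; exact ⟨_, rfl⟩
    rw [loc_range] at h1 h2 ⊢
    rw [PrimeSpectrum.basicOpen_mul]
    exact ⟨h1, h2⟩
  let u := IsOpenImmersion.lift (loc A t) _ hsub
  have hfst : pullback.fst (loc A i) (loc A j) = u ≫ Spec.map (CommRingCat.ofHom ti) := by
    rw [← cancel_mono (loc A i), Category.assoc, hti, IsOpenImmersion.lift_fac]
  have hsnd : pullback.snd (loc A i) (loc A j) = u ≫ Spec.map (CommRingCat.ofHom tj) := by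
    rw [← cancel_mono (loc A j), Category.assoc, htj, IsOpenImmersion.lift_fac, pullback.condition]
  rw [hfst, hsnd, Category.assoc, Category.assoc]
  congr 1
  refine InjEpi.eq_of_specMap_comp_eq (awayHom a t) (InjEpi.injective_away a ha t) (fun p => ?_) ?_
  · have hp : loc A t p ∈ (PrimeSpectrum.basicOpen t : Set (PrimeSpectrum A)) := loc_range t ▸ ⟨p, rfl⟩
    have hq : PrimeSpectrum.comap π (loc A t p) ∈ Set.range (loc C (a t)) := by
      rw [loc_range]
      exact fun h => hp ((mem_of_nilpotent ha hπ (loc A t p) t).2 h)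
    obtain ⟨q, hq⟩ := hq
    refine ⟨q, (loc A t).isOpenEmbedding.injective ?_⟩
    refine (congr($(sq a t) q)).trans ((congrArg (PrimeSpectrum.comap a) hq).trans ?_)
    ext x
    exact (mem_of_nilpotent ha hπ (loc A t p) x).symm
  · exact (restrict_piece i t ht.1 zi hi).trans (restrict_piece j t ht.2 zj hj).symm

/-- Morphisms descend along an equalizer of ring maps which is surjective up to nilpotent elements. -/
theorem exists_desc {A C P : Type u} [CommRing A] [CommRing C] [CommRing P] (a : A →+* C) (α β : C →+* P)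
    (hαβ : α.comp a = β.comp a) (heq : ∀ c, α c = β c → c ∈ a.range) (ha : Function.Injective a)
    (π : C →+* A) (hπ : ∀ c, IsNilpotent (c - a (π c))) {X : Scheme.{u}} (g : Spec (CommRingCat.of C) ⟶ X)
    (hg : Spec.map (CommRingCat.ofHom α) ≫ g = Spec.map (CommRingCat.ofHom β) ≫ g) :
    ∃ z : Spec (CommRingCat.of A) ⟶ X, Spec.map (CommRingCat.ofHom a) ≫ z = g := by
  have hmem : ∀ (q : PrimeSpectrum C) (c : C), c ∈ q.asIdeal ↔ a (π c) ∈ q.asIdeal := fun q c => by
    have hmem := nilpotent_iff_mem_prime.mp (hπ c) q.asIdeal q.isPrime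
    exact ⟨fun h => by simpa using q.asIdeal.sub_mem h hmem, fun h => by simpa using q.asIdeal.add_mem hmem h⟩
  have hπa : ∀ (p : PrimeSpectrum A) (x : A), x ∈ p.asIdeal ↔ π (a x) ∈ p.asIdeal := fun p x => by
    have hn : IsNilpotent (x - π (a x)) := by
      obtain ⟨k, hk⟩ := hπ (a x)
      exact ⟨k, ha (by rw [map_pow, map_sub, hk, map_zero])⟩
    have hmem := nilpotent_iff_mem_prime.mp hn p.asIdeal p.isPrime
    exact ⟨fun h => by simpa using p.asIdeal.sub_mem h hmem, fun h => by simpa using p.asIdeal.add_mem hmem h⟩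
  have hsurj : ∀ p : PrimeSpectrum A, PrimeSpectrum.comap a (PrimeSpectrum.comap π p) = p := fun p => by
    ext x
    exact (hπa p x).symm
  let S : Set A := {r | ∃ U : X.affineOpens, ∀ q : PrimeSpectrum C, a r ∉ q.asIdeal → g q ∈ U.1}
  have hS : Ideal.span S = ⊤ := by
    by_contra hne
    obtain ⟨m, hm, hle⟩ := Ideal.exists_le_maximal _ hne
    let p : PrimeSpectrum A := ⟨m, hm.isPrime⟩
    let q := PrimeSpectrum.comap π p
    obtain ⟨U, hU, hqU, -⟩ := TopologicalSpace.Opens.isBasis_iff_nbhd.mp X.isBasis_affineOpens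
      (show g q ∈ (⊤ : X.Opens) from trivial)
    obtain ⟨_, ⟨c, rfl⟩, hc, hcU⟩ :=
      PrimeSpectrum.isTopologicalBasis_basic_opens.exists_subset_of_mem_open (a := q)
        (u := {q' : PrimeSpectrum C | g q' ∈ U}) hqU (g ⁻¹ᵁ U).isOpen
    have hrS : π c ∈ S := ⟨⟨U, hU⟩, fun q' hq' => hcU fun h => hq' ((hmem q' c).1 h)⟩
    exact hc (hle (Ideal.subset_span hrS))
  let l : A → Scheme.{u} := fun r => Spec (CommRingCat.of (Localization.Away r))
  let ι : ∀ r : A, l r ⟶ Spec (CommRingCat.of A) := fun r =>
    Spec.map (CommRingCat.ofHom (algebraMap A (Localization.Away r)))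
  let ar : ∀ r : A, Localization.Away r →+* Localization.Away (a r) := fun r =>
    IsLocalization.Away.map (Localization.Away r) (Localization.Away (a r)) a r
  let κ : ∀ r : A, Spec (CommRingCat.of (Localization.Away (a r))) ⟶ Spec (CommRingCat.of C) := fun r =>
    Spec.map (CommRingCat.ofHom (algebraMap C (Localization.Away (a r))))
  have sq : ∀ r, Spec.map (CommRingCat.ofHom (ar r)) ≫ ι r = κ r ≫ Spec.map (CommRingCat.ofHom a) := fun r => by
    simp only [ι, κ, ar, ← Spec.map_comp, ← CommRingCat.ofHom_comp]
    congr 2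
    exact IsLocalization.map_comp _
  have loc : ∀ r : S, ∃ z : l r ⟶ X, Spec.map (CommRingCat.ofHom (ar r)) ≫ z = κ r ≫ g := by
    rintro ⟨r, U, hU⟩
    have hrange : Set.range (κ r ≫ g) ⊆ Set.range U.2.fromSpec := by
      rintro _ ⟨q, rfl⟩
      rw [U.2.range_fromSpec, Scheme.Hom.comp_apply]
      refine hU _ ?_
      have : κ r q ∈ Set.range (κ r) := ⟨q, rfl⟩
      rw [show Set.range (κ r) = (PrimeSpectrum.basicOpen (a r) : Set (PrimeSpectrum C)) from
        PrimeSpectrum.localization_away_comap_range (Localization.Away (a r)) (a r)] at this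
      exact this
    let g' := IsOpenImmersion.lift U.2.fromSpec (κ r ≫ g) hrange
    obtain ⟨φ, hφ⟩ := Spec.map_surjective g'
    have hmain := exists_away_eq a α β hαβ heq r φ.hom
    set α' : Localization.Away (a r) →+* Localization.Away (α (a r)) :=
      IsLocalization.Away.lift (g := (algebraMap P (Localization.Away (α (a r)))).comp α) (a r)
      (IsLocalization.Away.algebraMap_isUnit (S := Localization.Away (α (a r))) (α (a r))) with hα'
    have hu := isUnit_comp a hαβ r
    set β' : Localization.Away (a r) →+* Localization.Away (α (a r)) := IsLocalization.Away.lift (g := (algebraMap P (Localization.Away (α (a r)))).comp β) (a r) hu with hβ'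
    have hkey : φ ≫ CommRingCat.ofHom α' = φ ≫ CommRingCat.ofHom β' := by
      refine Spec.map_injective ?_
      rw [← cancel_mono U.2.fromSpec]
      rw [Spec.map_comp, Spec.map_comp, Category.assoc, Category.assoc, hφ, IsOpenImmersion.lift_fac]
      simp only [κ, ← Category.assoc, ← Spec.map_comp, ← CommRingCat.ofHom_comp]
      rw [hα', hβ', IsLocalization.Away.lift_comp, IsLocalization.Away.lift_comp]
      simp only [CommRingCat.ofHom_comp, Spec.map_comp, Category.assoc, hg]
    have hφr : ∀ d, φ.hom d ∈ (ar r).range := hmain fun d => congr($(hkey).hom d)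
    let e := RingEquiv.ofBijective (ar r).rangeRestrict
      ⟨fun x y h => InjEpi.injective_away a ha r (congrArg Subtype.val h), (ar r).rangeRestrict_surjective⟩
    let ψ : Γ(X, U.1) →+* Localization.Away r := e.symm.toRingHom.comp (φ.hom.codRestrict (ar r).range hφr)
    refine ⟨Spec.map (CommRingCat.ofHom ψ) ≫ U.2.fromSpec, ?_⟩
    rw [← Category.assoc, ← Spec.map_comp]
    have : CommRingCat.ofHom ψ ≫ CommRingCat.ofHom (ar r) = φ := by
      ext d
      exact congrArg Subtype.val (e.apply_symm_apply _)
    rw [this, hφ, IsOpenImmersion.lift_fac]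
  choose z hz using loc
  let 𝒰 := (Scheme.affineOpenCoverOfSpanRangeEqTop (R := CommRingCat.of A) (fun r : S => (r : A))
    (by rwa [Subtype.range_coe])).openCover
  have agree : ∀ i j : 𝒰.I₀, pullback.fst (𝒰.f i) (𝒰.f j) ≫ z i = pullback.snd (𝒰.f i) (𝒰.f j) ≫ z j :=
    fun (i : S) (j : S) => piece_agree ha hπ (g := g) i.1 j.1 (z i) (z j) (hz i) (hz j)
  refine ⟨𝒰.glueMorphisms z agree, ?_⟩
  let 𝒱 := (Scheme.affineOpenCoverOfSpanRangeEqTop (R := CommRingCat.of C) (fun r : S => a r)
    (by
      rw [show (Set.range fun r : S => a r.1) = a '' S from (Set.image_eq_range _ _).symm, ← Ideal.map_span, hS,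
        Ideal.map_top])).openCover
  refine Scheme.Cover.hom_ext 𝒱 _ _ fun (r : S) => ?_
  change κ r ≫ _ = κ r ≫ _
  rw [← Category.assoc, ← sq, Category.assoc]
  change Spec.map _ ≫ 𝒰.f r ≫ _ = _
  rw [𝒰.ι_glueMorphisms, hz]

end Groth.Agent.LieAlg
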