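import Groth.Agent.LieAlg.Bracket
import Mathlib

/-!
# The tangent space of a group scheme is a Lie algebra
-/

set_option autoImplicit false
set_option linter.style.haveILetI false
set_option backward.isDefEq.respectTransparency false
universe u

open CategoryTheory AlgebraicGeometry MonoidalCategory CartesianMonoidalCategory MonObj

noncomputable section

namespace Groth.Agent.LieAlg

open Groth.Agent.TanAdd LieS

variable {S : Scheme.{u}} {G : Over S} [GrpObj G] {B : Type u} [CommRing B] {f : Spec (CommRingCat.of B) ⟶ S}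

variable {B' : Type u} [CommRing B'] (h : B →+* B')

/-- Base change of iterated dual numbers. -/
def d2Hom : D2 B →+* D2 B' := bcHom (bcHom h)

theorem d2Hom_toD2 (w : B) : d2Hom h (toD2 B w) = toD2 B' (h w) := by
  ext <;> simp [d2Hom, bcHom, TrivSqZeroExt.algebraMap_eq_inl']

theorem d2Hom_fst (w : DualNumber B) :
    d2Hom h (algebraMap (DualNumber B) (D2 B) w) = algebraMap (DualNumber B') (D2 B') (bcHom h w) := by
  ext <;> simp [d2Hom, bcHom, TrivSqZeroExt.algebraMap_eq_inl']

theorem d2Hom_snd (w : DualNumber B) :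
    d2Hom h (bcHom (algebraMap B (DualNumber B)) w) = bcHom (algebraMap B' (DualNumber B')) (bcHom h w) := by
  ext <;> simp [d2Hom, bcHom, TrivSqZeroExt.algebraMap_eq_inl']

theorem d2Hom_mul (w : DualNumber B) : d2Hom h (mulHom B w) = mulHom B' (bcHom h w) := by
  ext <;> simp [d2Hom, bcHom, mulHom, TrivSqZeroExt.algebraMap_eq_inl']

/-- Base change of iterated dual numbers, as a morphism. -/
def d2Map : d2pt B' (Spec.map (CommRingCat.ofHom h) ≫ f) ⟶ d2pt B f :=
  Over.homMk (Spec.map (CommRingCat.ofHom (R := D2 B) (S := D2 B') (d2Hom h))) (by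
    change Spec.map _ ≫ Spec.map _ ≫ Spec.map _ ≫ f = Spec.map _ ≫ Spec.map _ ≫ Spec.map _ ≫ f
    rw [← Category.assoc, specMap_comp, ← Category.assoc, specMap_comp, ← Category.assoc (Spec.map _) (Spec.map _),
      specMap_comp, ← Category.assoc, specMap_comp]
    congr 3
    exact RingHom.ext (d2Hom_toD2 h))

theorem d2Map_comp (q : d2pt B f ⟶ dpt B f) (r : DualNumber B →+* D2 B)
    (q' : d2pt B' (Spec.map (CommRingCat.ofHom h) ≫ f) ⟶ dpt B' (Spec.map (CommRingCat.ofHom h) ≫ f))
    (r' : DualNumber B' →+* D2 B')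
    (hq : q.left = Spec.map (CommRingCat.ofHom (R := DualNumber B) (S := D2 B) r))
    (hq' : q'.left = Spec.map (CommRingCat.ofHom (R := DualNumber B') (S := D2 B') r'))
    (e : ∀ w, d2Hom h (r w) = r' (bcHom h w)) : q' ≫ dptMap f h = d2Map h ≫ q := by
  apply Over.OverMorphism.ext
  rw [Over.comp_left, Over.comp_left, hq, hq']
  have h1 := @specMap_comp (DualNumber B) (DualNumber B') (D2 B') _ _ _ (bcHom h) r'
  have h2 := @specMap_comp (DualNumber B) (D2 B) (D2 B') _ _ _ r (d2Hom h)
  rw [show r'.comp (bcHom h) = (d2Hom h).comp r from RingHom.ext fun w => (e w).symm] at h1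
  exact h1.trans h2.symm

theorem c1_pull (v : Lie G B f) : c1 (pull G f h v) = d2Map h ≫ c1 v :=
  (Category.assoc _ _ _).symm.trans
    ((congrArg (· ≫ v.1) (d2Map_comp h _ _ _ _ left_proj left_proj (d2Hom_fst h))).trans (Category.assoc _ _ _))

theorem c2_pull (v : Lie G B f) : c2 (pull G f h v) = d2Map h ≫ c2 v :=
  (Category.assoc _ _ _).symm.trans
    ((congrArg (· ≫ v.1) (d2Map_comp h _ _ _ _ left_dptMap left_dptMap (d2Hom_snd h))).trans (Category.assoc _ _ _))

theorem c12_pull (v : Lie G B f) : c12 (pull G f h v) = d2Map h ≫ c12 v :=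
  (Category.assoc _ _ _).symm.trans
    ((congrArg (· ≫ v.1) (d2Map_comp h _ _ _ _ left_mulMap left_mulMap (d2Hom_mul h))).trans (Category.assoc _ _ _))

theorem pull_br (x y : Lie G B f) : pull G f h (br x y) = br (pull G f h x) (pull G f h y) := by
  refine c12_injective ?_
  rw [c12_pull, c12_br, c12_br, c1_pull, c2_pull]
  simp only [MonObj.comp_mul, GrpObj.comp_inv]

omit B' h

theorem proj_proj_c2 : dptMap f (algebraMap B (DualNumber B)) ≫ proj B f =
    proj (DualNumber B) (dpt B f).hom ≫ proj B f := by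
  apply Over.OverMorphism.ext
  rw [Over.comp_left, Over.comp_left]
  have h1 := @specMap_comp B (DualNumber B) (D2 B) _ _ _ (algebraMap B (DualNumber B))
    (bcHom (algebraMap B (DualNumber B)))
  have h2 := @specMap_comp B (DualNumber B) (D2 B) _ _ _ (algebraMap B (DualNumber B))
    (algebraMap (DualNumber B) (D2 B))
  rw [bcHom_comp_algebraMap] at h1
  exact h1.trans h2.symm

theorem proj_proj_c12 : mulMap B f ≫ proj B f = proj (DualNumber B) (dpt B f).hom ≫ proj B f := by
  apply Over.OverMorphism.ext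
  rw [Over.comp_left, Over.comp_left]
  have h1 := @specMap_comp B (DualNumber B) (D2 B) _ _ _ (algebraMap B (DualNumber B)) (mulHom B)
  have h2 := @specMap_comp B (DualNumber B) (D2 B) _ _ _ (algebraMap B (DualNumber B))
    (algebraMap (DualNumber B) (D2 B))
  rw [mulHom_comp_algebraMap] at h1
  exact h1.trans h2.symm

theorem Ad_val (g : pt B f ⟶ G) (v : Lie G B f) :
    (Ad G B f g v).1 = (proj B f ≫ g) * v.1 * (proj B f ≫ g)⁻¹ := rfl

theorem Ad_br (g : pt B f ⟶ G) (x y : Lie G B f) : Ad G B f g (br x y) = br (Ad G B f g x) (Ad G B f g y) := by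
  refine c12_injective ?_
  let k : d2pt B f ⟶ G := proj (DualNumber B) (dpt B f).hom ≫ proj B f ≫ g
  have h1 : ∀ v, c1 (Ad G B f g v) = k * c1 v * k⁻¹ := fun v => by
    rw [c1, Ad_val, MonObj.comp_mul, MonObj.comp_mul, GrpObj.comp_inv]
    rfl
  have h2 : ∀ v, c2 (Ad G B f g v) = k * c2 v * k⁻¹ := fun v => by
    rw [c2, Ad_val, MonObj.comp_mul, MonObj.comp_mul, GrpObj.comp_inv, ← Category.assoc, proj_proj_c2,
      Category.assoc]
    rfl
  have h12 : ∀ v, c12 (Ad G B f g v) = k * c12 v * k⁻¹ := fun v => by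
    rw [c12, Ad_val, MonObj.comp_mul, MonObj.comp_mul, GrpObj.comp_inv, ← Category.assoc, proj_proj_c12,
      Category.assoc]
    rfl
  rw [h12, c12_br, c12_br, h1, h2]
  group

theorem br_antisymm (x y : Lie G B f) : br x y * br y x = 1 := by
  have h := br_self (x * y)
  rw [br_mul_left, br_mul_right, br_mul_right, br_self, br_self, _root_.one_mul, _root_.mul_one] at h
  exact h

theorem smul_pull_eps (z : Lie G B f) :
    (((DualNumber.eps : DualNumber B) • pull G f (algebraMap B (DualNumber B)) z :
      Lie G (DualNumber B) _)).1 = c12 z := by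
  change scale _ _ _ ≫ dptMap _ _ ≫ z.1 = mulMap B f ≫ z.1
  rw [← Category.assoc]
  refine congrArg (· ≫ z.1) ?_
  apply Over.OverMorphism.ext
  rw [Over.comp_left]
  have h1 := @specMap_comp (DualNumber B) (D2 B) (D2 B) _ _ _ (bcHom (algebraMap B (DualNumber B)))
    (scaleHom (DualNumber.eps : DualNumber B))
  refine h1.trans ?_
  rw [show (scaleHom (DualNumber.eps : DualNumber B)).comp (bcHom (algebraMap B (DualNumber B))) = mulHom B from
    RingHom.ext fun w => by ext <;> simp [scaleHom, bcHom, mulHom, TrivSqZeroExt.algebraMap_eq_inl']]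
  rfl

/-- The adjoint action of a tangent vector. -/
theorem Ad_tangent (x v : Lie G B f) :
    Ad G (DualNumber B) (Spec.map (CommRingCat.ofHom (algebraMap B (DualNumber B))) ≫ f)
        (x.1 : pt (DualNumber B) (Spec.map (CommRingCat.ofHom (algebraMap B (DualNumber B))) ≫ f) ⟶ G)
        (pull G f (algebraMap B (DualNumber B)) v) =
      pull G f (algebraMap B (DualNumber B)) v *
        (DualNumber.eps : DualNumber B) • pull G f (algebraMap B (DualNumber B)) (br x v) := by
  apply Subtype.ext
  rw [Ad_val, Subgroup.coe_mul, smul_pull_eps]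
  change c1 x * c2 v * (c1 x)⁻¹ = c2 v * c12 (br x v)
  have h : c12 (br x v) = (c12 (br v x))⁻¹ := eq_inv_of_mul_eq_one_left (by
    rw [← c12_mul, br_antisymm, c12_one])
  rw [← (c12_commute_c2 (br x v) v).eq, h, c12_br]
  group

theorem br_jacobi (x v w : Lie G B f) : br x (br v w) = br (br x v) w * br v (br x w) := by
  let jj := pull G f (algebraMap B (DualNumber B))
  let ε : DualNumber B := DualNumber.eps
  have h := Ad_br (G := G) (f := Spec.map (CommRingCat.ofHom (algebraMap B (DualNumber B))) ≫ f)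
    (x.1 : pt (DualNumber B) (Spec.map (CommRingCat.ofHom (algebraMap B (DualNumber B))) ≫ f) ⟶ G) (jj v) (jj w)
  rw [← pull_br, Ad_tangent, Ad_tangent, Ad_tangent] at h
  have h2 : ε • ε • br (jj (br x v)) (jj (br x w)) = 1 := by
    rw [← lie_mul_smul, show ε * ε = 0 from eps_sq B, lie_zero_smul]
  rw [br_mul_left, br_mul_right, br_mul_right, br_smul_left, br_smul_left, br_smul_right, br_smul_right, h2,
    _root_.mul_one, ← pull_br, ← pull_br, ← pull_br, _root_.mul_assoc, mul_right_inj, ← lie_smul_mul, ← map_mul] at h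
  refine c12_injective ?_
  rw [← smul_pull_eps, ← smul_pull_eps]
  exact congrArg Subtype.val (h.trans (congrArg (fun z => ε • jj z) (lie_mul_comm _ _)))

instance instLieRing : LieRing (Additive (Lie G B f)) where
  bracket x y := Additive.ofMul (br x.toMul y.toMul)
  add_lie x y z := congrArg Additive.ofMul (br_mul_left _ _ _)
  lie_add x y z := congrArg Additive.ofMul (br_mul_right _ _ _)
  lie_self x := congrArg Additive.ofMul (br_self _)
  leibniz_lie x y z := congrArg Additive.ofMul (br_jacobi _ _ _)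

instance instLieAlgebra : LieAlgebra B (Additive (Lie G B f)) where
  lie_smul b x y := congrArg Additive.ofMul (br_smul_right b _ _)

/-- The model of the Lie algebra. -/
def model : Model G B f (Additive (Lie G B f)) where
  e :=
    { toFun := fun v => Additive.toMul (Multiplicative.toAdd v)
      invFun := fun v => Multiplicative.ofAdd (Additive.ofMul v)
      map_mul' := fun _ _ => rfl }
  e_smul _ _ := rfl
  e_lie x y := c12_br _ _

end Groth.Agent.LieAlg
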